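import Groth.Agent.DerComplete.Criterion
import Mathlib.Algebra.Category.ModuleCat.Projective

/-!
# Derived completeness of the cohomology of a complex with `f`-complete terms
-/

set_option autoImplicit false
set_option backward.isDefEq.respectTransparency.types false

universe u

open CategoryTheory CategoryTheory.Limits

namespace Groth.EtaleDeep.DC

open Groth.DerComplete

variable {Λ : Type u} [CommRing Λ]

lemma sigma_map {M N : Type u} [AddCommGroup M] [Module Λ M] [AddCommGroup N] [Module Λ N] (f : Λ)
    (φ : M →ₗ[Λ] N) (x : ℕ → M) : sigma f N (fun n => φ (x n)) = fun n => φ (sigma f M x n) := by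
  funext n
  simp

variable (K : CochainComplex (ModuleCat.{u} Λ) ℤ) (f : Λ)

/-- A closed element lifts to the cycles. -/
lemma exists_cycle {n m : ℤ} (hm : n + 1 = m) (x : K.X n) (hx : K.d n m x = 0) :
    ∃ z : K.cycles n, K.iCycles n z = x := by
  have hex : (ShortComplex.mk (K.iCycles n) (K.d n m) (K.iCycles_d n m)).Exact :=
    ShortComplex.exact_of_f_is_kernel _ (K.cyclesIsKernel n m ((ComplexShape.up ℤ).next_eq' hm))
  exact (ShortComplex.moduleCat_exact_iff _).1 hex x hx

lemma homologyπ_eq_zero {k n : ℤ} (hk : k + 1 = n) (z : K.cycles n) :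
    K.homologyπ n z = 0 ↔ ∃ w : K.X k, K.iCycles n z = K.d k n w := by
  have hex : (ShortComplex.mk _ _ (K.toCycles_comp_homologyπ k n)).Exact :=
    ShortComplex.exact_of_g_is_cokernel _
      (K.homologyIsCokernel k n ((ComplexShape.up ℤ).prev_eq' hk))
  constructor
  · intro hz
    obtain ⟨w, hw⟩ := (ShortComplex.moduleCat_exact_iff _).1 hex z hz
    refine ⟨w, ?_⟩
    rw [← hw]
    exact ConcreteCategory.congr_hom (K.toCycles_i k n) w
  · rintro ⟨w, hw⟩
    have : z = K.toCycles k n w := (ModuleCat.mono_iff_injective _).1 (inferInstance : Mono (K.iCycles n))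
      (hw.trans (ConcreteCategory.congr_hom (K.toCycles_i k n) w).symm)
    rw [this]
    exact ConcreteCategory.congr_hom (K.toCycles_comp_homologyπ k n) w

lemma exists_cycle_rep (n : ℤ) (h : K.homology n) : ∃ z, K.homologyπ n z = h :=
  (ModuleCat.epi_iff_surjective _).1 (inferInstanceAs (Epi (K.homologyπ n))) h

/-- The compatible sequences form an exact complex. -/
def SeqExact : Prop :=
  ∀ (k n m : ℤ), k + 1 = n → n + 1 = m → ∀ x : ℕ → K.X n, sigma f (K.X n) x = 0 →
    (∀ i, K.d n m (x i) = 0) → ∃ t : ℕ → K.X k, sigma f (K.X k) t = 0 ∧ ∀ i, K.d k n (t i) = x i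

variable {K f}

theorem dc_homology (hs : ∀ n, Function.Surjective (sigma f (K.X n))) (h : SeqExact K f) (n : ℤ) :
    DC f (K.homology n) := by
  obtain ⟨k, hk⟩ : ∃ k, k + 1 = n := ⟨n - 1, by omega⟩
  let π := (K.homologyπ n).hom
  let i := (K.iCycles n).hom
  refine ⟨(injective_iff_map_eq_zero _).2 fun a ha => ?_, fun b => ?_⟩
  · choose z hz using fun j => exists_cycle_rep K n (a j)
    have hπ : ∀ j, K.homologyπ n (sigma f _ z j) = 0 := fun j => by
      have := congrFun ((sigma_map f π z).symm) j
      refine this.trans ?_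
      rw [show (fun j => π (z j)) = a from funext hz, ha]
      rfl
    choose w hw using fun j => (homologyπ_eq_zero K hk _).1 (hπ j)
    obtain ⟨w', rfl⟩ := hs k w
    let x : ℕ → K.X n := fun j => i (z j) - (K.d k n).hom (w' j)
    have hx : sigma f _ x = 0 := by
      have h1 : x = (fun j => i (z j)) - fun j => (K.d k n).hom (w' j) := rfl
      rw [h1, map_sub, sigma_map, sigma_map, sub_eq_zero]
      exact funext hw
    obtain ⟨t, -, ht⟩ := h k n (n + 1) hk rfl x hx fun j => by
      change (K.d n (n + 1)).hom (i (z j) - (K.d k n).hom (w' j)) = 0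
      rw [map_sub, show (K.d n (n + 1)).hom (i (z j)) = 0 from
          ConcreteCategory.congr_hom (K.iCycles_d n (n + 1)) (z j),
        show (K.d n (n + 1)).hom ((K.d k n).hom (w' j)) = 0 from
          ConcreteCategory.congr_hom (K.d_comp_d k n (n + 1)) (w' j), sub_zero]
    funext j
    rw [← hz j]
    refine (homologyπ_eq_zero K hk _).2 ⟨t j + w' j, ?_⟩
    rw [map_add, ht j]
    exact (sub_add_cancel _ _).symm
  · choose z hz using fun j => exists_cycle_rep K n (b j)
    obtain ⟨x, hx⟩ := hs n fun j => i (z j)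
    have hdx : sigma f _ (fun j => (K.d n (n + 1)).hom (x j)) = 0 := by
      rw [sigma_map, hx]
      exact funext fun j => ConcreteCategory.congr_hom (K.iCycles_d n (n + 1)) (z j)
    obtain ⟨t, ht0, ht⟩ := h n (n + 1) (n + 1 + 1) rfl rfl _ hdx fun j =>
      ConcreteCategory.congr_hom (K.d_comp_d n (n + 1) (n + 1 + 1)) (x j)
    choose y hy using fun j => exists_cycle K (n := n) rfl (x j - t j) (by
      rw [map_sub]
      exact sub_eq_zero.2 (ht j).symm)
    have hy' : sigma f _ y = z := by
      funext j
      refine (ModuleCat.mono_iff_injective _).1 (inferInstance : Mono (K.iCycles n)) ?_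
      refine (congrFun (sigma_map f i y) j).symm.trans ?_
      rw [show (fun j => i (y j)) = x - t from funext hy, map_sub, hx, ht0, sub_zero]
    refine ⟨fun j => π (y j), ?_⟩
    rw [sigma_map, hy']
    exact funext hz

theorem seqExact_of_dc (hs : ∀ n, Function.Surjective (sigma f (K.X n)))
    (h : ∀ n, DC f (K.homology n)) : SeqExact K f := by
  intro k n m hk hm x hx hdx
  obtain ⟨l, hl⟩ : ∃ l, l + 1 = k := ⟨k - 1, by omega⟩
  choose z hz using fun j => exists_cycle K hm (x j) (hdx j)
  have hσz : sigma f _ z = 0 := by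
    funext j
    refine (ModuleCat.mono_iff_injective _).1 (inferInstance : Mono (K.iCycles n)) ?_
    refine ((congrFun (sigma_map f (K.iCycles n).hom z) j).symm.trans ?_).trans (map_zero _).symm
    rw [show (fun j => (K.iCycles n).hom (z j)) = x from funext hz, hx]
    rfl
  have hz0 : (fun j => (K.homologyπ n).hom (z j)) = 0 := (h n).1 (by
    rw [sigma_map, hσz, map_zero]
    exact funext fun j => map_zero _)
  choose t ht using fun j => (homologyπ_eq_zero K hk (z j)).1 (congrFun hz0 j)
  -- `sigma t` is closed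
  have hst : ∀ j, K.d k n (sigma f _ t j) = 0 := fun j => by
    refine (congrFun (sigma_map f (K.d k n).hom t) j).symm.trans ?_
    rw [show (fun j => (K.d k n).hom (t j)) = x from funext fun j => (ht j).symm.trans (hz j), hx]
    rfl
  choose v hv using fun j => exists_cycle K hk (sigma f _ t j) (hst j)
  obtain ⟨c, hc⟩ := (h k).2 fun j => (K.homologyπ k).hom (v j)
  choose y hy using fun j => exists_cycle_rep K k (c j)
  have h3 : ∀ j, K.homologyπ k (v j - sigma f _ y j) = 0 := fun j => by
    rw [map_sub, sub_eq_zero]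
    refine (congrFun hc j).symm.trans (Eq.trans ?_ (congrFun (sigma_map f (K.homologyπ k).hom y) j))
    rw [show (fun j => (K.homologyπ k).hom (y j)) = c from funext hy]
  choose w hw using fun j => (homologyπ_eq_zero K hl _).1 (h3 j)
  obtain ⟨w', rfl⟩ := hs l w
  refine ⟨(t - fun j => K.iCycles k (y j)) - fun j => K.d l k (w' j), ?_, fun j => ?_⟩
  · rw [map_sub, map_sub, sigma_map f (K.iCycles k).hom, sigma_map f (K.d l k).hom]
    funext j
    refine sub_eq_zero.2 (Eq.trans ?_ (hw j))
    rw [map_sub, hv j]
    rfl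
  · change K.d k n (t j - K.iCycles k (y j) - K.d l k (w' j)) = x j
    rw [map_sub, map_sub, show K.d k n (K.iCycles k (y j)) = 0 from
        ConcreteCategory.congr_hom (K.iCycles_d k n) (y j),
      show K.d k n (K.d l k (w' j)) = 0 from ConcreteCategory.congr_hom (K.d_comp_d l k n) (w' j),
      sub_zero, sub_zero, ← ht j, hz j]

end Groth.EtaleDeep.DC
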