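import Groth.Agent.EtaleDeep.DC.Criterion
import Groth.Agent.EtaleDeep.ProEt.Objects
import Mathlib.CategoryTheory.Sites.LocallyBijective

/-!
# Constant sheaves of modules on weakly contractible objects, and gluing of morphisms given there
-/

set_option autoImplicit false
set_option backward.isDefEq.respectTransparency.types false
set_option linter.style.haveILetI false

universe u

open CategoryTheory CategoryTheory.Limits AlgebraicGeometry Opposite

namespace Groth.EtaleDeep.DC

variable {Λ : Type (u + 1)} [CommRing Λ] {X : Scheme.{u}}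

/-- The constant sheaf. -/
noncomputable abbrev cM (X : Scheme.{u}) (M : ModuleCat.{u + 1} Λ) : EtModW.ModP Λ X :=
  (constantSheaf (Scheme.ProEt.topology X) (ModuleCat.{u + 1} Λ)).obj M

/-- The constant sections. -/
noncomputable def cst (M : ModuleCat.{u + 1} Λ) (V : X.ProEt) : M →ₗ[Λ] (cM X M).obj.obj (op V) :=
  ((toSheafify (Scheme.ProEt.topology X) ((Functor.const (X.ProEt)ᵒᵖ).obj M)).app (op V)).hom

lemma res_cst (M : ModuleCat.{u + 1} Λ) {V V' : X.ProEt} (g : V' ⟶ V) (m : M) :
    ((cM X M).obj.map g.op).hom (cst M V m) = cst M V' m :=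
  (NatTrans.naturality_apply
    (toSheafify (Scheme.ProEt.topology X) ((Functor.const (X.ProEt)ᵒᵖ).obj M)) g.op m).symm

lemma map_cst {M N : ModuleCat.{u + 1} Λ} (f : M ⟶ N) (V : X.ProEt) (m : M) :
    (((constantSheaf (Scheme.ProEt.topology X) (ModuleCat.{u + 1} Λ)).map f).hom.app (op V)).hom
      (cst M V m) = cst N V (f m) :=
  (ConcreteCategory.congr_hom (congrArg (fun φ => φ.app (op V))
    (toSheafify_naturality (Scheme.ProEt.topology X) ((Functor.const (X.ProEt)ᵒᵖ).map f))) m).symm

/-- A nonzero constant section vanishes only on objects covered by the empty family. -/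
theorem cst_eq_zero {M : ModuleCat.{u + 1} Λ} {V : X.ProEt} {m : M} (h : cst M V m = 0) :
    m = 0 ∨ ∀ G : EtModW.ModP Λ X, Subsingleton (G.obj.obj (op V)) := by
  refine or_iff_not_imp_left.2 fun hm G => ?_
  have hbot : (⊥ : Sieve V) ∈ Scheme.ProEt.topology X V := by
    refine (Scheme.ProEt.topology X).superset_covering ?_ (Presheaf.equalizerSieve_mem
      (Scheme.ProEt.topology X) (toSheafify (Scheme.ProEt.topology X) ((Functor.const (X.ProEt)ᵒᵖ).obj M))
      (m : ((Functor.const (X.ProEt)ᵒᵖ).obj M).obj (op V)) 0 (h.trans (map_zero (cst M V)).symm))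
    intro Y k hk
    exact (hm hk).elim
  have hG := (isSheaf_iff_isSheaf_of_type _ _).1
    ((sheafCompose (Scheme.ProEt.topology X) (forget (ModuleCat.{u + 1} Λ))).obj G).property
  exact ⟨fun a b => (hG _ hbot).isSeparatedFor.ext fun Y q hq => False.elim hq⟩

section WC

variable {V : X.ProEt} [IsAffine V.left] (hV : ProEtS.IsWC V)

include hV

theorem hasClopenRefinements : ProEt.HasClopenRefinements V :=
  (ProEt.isWContractible_iff_refinements V).1 ((ProEt.isWContractible_iff_isWC V).2 hV)

/-- Finitely many sections of a constant sheaf are constant on the members of a decomposition. -/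
theorem exists_decomp (M : ModuleCat.{u + 1} Λ) {κ : Type*} (s : Finset κ)
    (x : κ → (cM X M).obj.obj (op V)) :
    ∃ (n : ℕ) (O : Fin n → V.left.Opens) (c : κ → Fin n → M),
      Pairwise (fun k l => Disjoint (O k : Set ↥V.left) (O l)) ∧
      (⋃ k, (O k : Set ↥V.left)) = Set.univ ∧
      ∀ i ∈ s, ∀ k, ((cM X M).obj.map (ProEt.openHom (O k)).op).hom (x i) =
        cst M (Scheme.ProEt.mk ((O k).ι ≫ V.hom)) (c i k) := by
  classical
  let J := Scheme.ProEt.topology X
  let η := toSheafify J ((Functor.const (X.ProEt)ᵒᵖ).obj M)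
  have hS : ∀ t : Finset κ, ∃ S : Sieve V, S ∈ J V ∧ ∀ i ∈ t, S ≤ Presheaf.imageSieve η (x i) := by
    intro t
    induction t using Finset.induction with
    | empty => exact ⟨⊤, J.top_mem V, fun i hi => absurd hi (Finset.notMem_empty i)⟩
    | insert j t _ ih =>
      obtain ⟨S, hS, hle⟩ := ih
      refine ⟨Presheaf.imageSieve η (x j) ⊓ S,
        J.intersection_covering (Presheaf.imageSieve_mem J η (x j)) hS, fun i hi => ?_⟩
      rcases Finset.mem_insert.1 hi with rfl | hi
      · exact inf_le_left
      · exact inf_le_right.trans (hle i hi)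
  obtain ⟨S, hS, hle⟩ := hS s
  obtain ⟨n, O, -, hdisj, hcov, hmem⟩ := hasClopenRefinements hV S hS
  have hc : ∀ i k, ∃ m : M, i ∈ s → ((cM X M).obj.map (ProEt.openHom (O k)).op).hom (x i) =
      cst M (Scheme.ProEt.mk ((O k).ι ≫ V.hom)) m := by
    intro i k
    by_cases hi : i ∈ s
    · obtain ⟨m, hm⟩ := hle i hi _ (hmem k)
      exact ⟨m, fun _ => hm.symm⟩
    · exact ⟨0, fun h => absurd h hi⟩
  choose c hc using hc
  exact ⟨n, O, c, hdisj, hcov, fun i hi k => hc i k hi⟩

omit [IsAffine V.left] hV in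
/-- Sections on a decomposition. -/
theorem res_bijective (G : EtModW.ModP Λ X) {n : ℕ} (O : Fin n → V.left.Opens)
    (hdisj : Pairwise (fun k l => Disjoint (O k : Set ↥V.left) (O l)))
    (hcov : (⋃ k, (O k : Set ↥V.left)) = Set.univ) :
    Function.Bijective (LinearMap.pi fun k => (G.obj.map (ProEt.openHom (O k)).op).hom :
      G.obj.obj (op V) →ₗ[Λ] ∀ k, G.obj.obj (op (Scheme.ProEt.mk ((O k).ι ≫ V.hom)))) :=
  ProEt.bijective_of_decomposition ((isSheaf_iff_isSheaf_of_type _ _).1
    ((sheafCompose (Scheme.ProEt.topology X) (forget (ModuleCat.{u + 1} Λ))).obj G).property) O hdisj hcov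

/-- Surjections of values give surjections of sections. -/
theorem cM_map_surjective {M N : ModuleCat.{u + 1} Λ} (p : M ⟶ N) (hp : Function.Surjective p) :
    Function.Surjective
      (((constantSheaf (Scheme.ProEt.topology X) (ModuleCat.{u + 1} Λ)).map p).hom.app (op V)).hom := by
  intro x
  obtain ⟨n, O, c, hd, hc, hx⟩ := exists_decomp hV N {PUnit.unit} fun _ : PUnit.{1} => x
  choose b hb using fun k => hp (c PUnit.unit k)
  obtain ⟨y, hy⟩ := (res_bijective (cM X M) O hd hc).2 fun k => cst M _ (b k)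
  refine ⟨y, (res_bijective (cM X N) O hd hc).1 (funext fun k => ?_)⟩
  change ((cM X N).obj.map _).hom _ = ((cM X N).obj.map _).hom x
  rw [hx _ (Finset.mem_singleton_self _) k, ← hb k, ← map_cst p, ← show _ = cst M _ (b k) from congrFun hy k]
  exact (NatTrans.naturality_apply ((constantSheaf (Scheme.ProEt.topology X)
    (ModuleCat.{u + 1} Λ)).map p).hom (ProEt.openHom (O k)).op y).symm

/-- The kernel on sections of a map out of the constant sheaf. -/
theorem cM_map_eq_zero_iff {N : ModuleCat.{u + 1} Λ} (p : ModuleCat.of Λ Λ ⟶ N)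
    (x : (cM X (ModuleCat.of Λ Λ)).obj.obj (op V)) :
    (((constantSheaf (Scheme.ProEt.topology X) (ModuleCat.{u + 1} Λ)).map p).hom.app (op V)).hom x = 0 ↔
      x ∈ (LinearMap.ker p.hom : Ideal Λ) •
        (⊤ : Submodule Λ ((cM X (ModuleCat.of Λ Λ)).obj.obj (op V))) := by
  classical
  let φ := (constantSheaf (Scheme.ProEt.topology X) (ModuleCat.{u + 1} Λ)).map p
  constructor
  · intro h0
    obtain ⟨n, O, c, hd, hc, hx⟩ := exists_decomp hV _ {PUnit.unit} fun _ : PUnit.{1} => x
    let e := LinearEquiv.ofBijective _ (res_bijective (cM X (ModuleCat.of Λ Λ)) O hd hc)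
    have : x = ∑ k, e.symm (Pi.single k (e x k)) := by
      refine e.injective ?_
      rw [map_sum]
      simp only [LinearEquiv.apply_symm_apply]
      exact (Finset.univ_sum_single (e x)).symm
    rw [this]
    refine Submodule.sum_mem _ fun k _ => ?_
    have hk : e x k = cst _ _ (c PUnit.unit k) := hx _ (Finset.mem_singleton_self _) k
    have hz : cst N (Scheme.ProEt.mk ((O k).ι ≫ V.hom)) (p (c PUnit.unit k)) = 0 := by
      rw [← map_cst p, ← hk]
      refine (NatTrans.naturality_apply φ.hom (ProEt.openHom (O k)).op x).trans ?_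
      exact (congrArg _ h0).trans (map_zero _)
    rcases cst_eq_zero hz with hm | hsub
    · have : e.symm (Pi.single k (e x k)) =
          c PUnit.unit k • e.symm (Pi.single k (cst (ModuleCat.of Λ Λ) _ 1)) := by
        rw [← map_smul, ← Pi.single_smul, ← map_smul, hk]
        simp
      rw [this]
      exact Submodule.smul_mem_smul hm Submodule.mem_top
    · rw [(hsub (cM X (ModuleCat.of Λ Λ))).elim (e x k) 0, Pi.single_zero, map_zero]
      exact Submodule.zero_mem _
  · intro hx
    refine Submodule.smul_induction_on hx (fun t ht y _ => ?_) fun y z hy hz => by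
      rw [map_add, hy, hz, add_zero]
    obtain ⟨n, O, c, hd, hc, hy⟩ := exists_decomp hV _ {PUnit.unit} fun _ : PUnit.{1} => y
    refine (res_bijective (cM X N) O hd hc).1 (funext fun k => ?_)
    change ((cM X N).obj.map _).hom _ = ((cM X N).obj.map _).hom 0
    refine (NatTrans.naturality_apply φ.hom (ProEt.openHom (O k)).op (t • y)).symm.trans ?_
    change (φ.hom.app _).hom (((cM X (ModuleCat.of Λ Λ)).obj.map _).hom (t • y)) = _
    rw [map_smul, hy _ (Finset.mem_singleton_self _) k, ← map_smul, map_cst, map_zero]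
    have ht' : p.hom (t • c PUnit.unit k) = 0 := by
      rw [show t • c PUnit.unit k = c PUnit.unit k • t from mul_comm t _, map_smul,
        show p.hom t = 0 from ht, smul_zero]
    exact (congrArg (cst N _) ht').trans (map_zero _)

/-- Relations between sections of the constant sheaf are trivial. -/
theorem cM_trivialRelation (κ : Type) (s : Finset κ) (f : κ → Λ)
    (x : κ → (cM X (ModuleCat.of Λ Λ)).obj.obj (op V)) (h : ∑ i ∈ s, f i • x i = 0) :
    ∃ (k : ℕ) (c : κ → Fin k → Λ) (y : Fin k → (cM X (ModuleCat.of Λ Λ)).obj.obj (op V)),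
      (∀ i ∈ s, x i = ∑ j, c i j • y j) ∧ ∀ j, ∑ i ∈ s, f i * c i j = 0 := by
  classical
  obtain ⟨n, O, c₀, hd, hc, hx⟩ := exists_decomp hV _ s x
  let e := LinearEquiv.ofBijective _ (res_bijective (cM X (ModuleCat.of Λ Λ)) O hd hc)
  let P : Fin n → Prop := fun k =>
    Subsingleton ((cM X (ModuleCat.of Λ Λ)).obj.obj (op (Scheme.ProEt.mk ((O k).ι ≫ V.hom))))
  let c : κ → Fin n → Λ := fun i k => if P k then 0 else c₀ i k
  refine ⟨n, c, fun k => e.symm (Pi.single k (cst (ModuleCat.of Λ Λ) _ 1)),
    fun i hi => e.injective ?_, fun k => ?_⟩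
  · funext l
    simp only [map_sum, map_smul, LinearEquiv.apply_symm_apply, Finset.sum_apply, Pi.smul_apply]
    rw [Finset.sum_eq_single l (fun b _ hb => by rw [Pi.single_eq_of_ne hb.symm, smul_zero])
      (fun hb => absurd (Finset.mem_univ l) hb), Pi.single_eq_same]
    by_cases hP : P l
    · exact hP.elim _ _
    · rw [← map_smul, show (c i l) • (1 : Λ) = c₀ i l by simp [c, hP]]
      exact hx i hi l
  · by_cases hP : P k
    · simp [c, hP]
    · simp only [c, hP, if_false]
      have hz : cst (ModuleCat.of Λ Λ) (Scheme.ProEt.mk ((O k).ι ≫ V.hom))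
          (∑ i ∈ s, f i * c₀ i k) = 0 := by
        have := congrArg ((cM X (ModuleCat.of Λ Λ)).obj.map (ProEt.openHom (O k)).op).hom h
        rw [map_sum, map_zero] at this
        rw [map_sum, ← this]
        refine Finset.sum_congr rfl fun i hi => ?_
        rw [map_smul, hx i hi k, ← map_smul]
        rfl
      exact (cst_eq_zero hz).resolve_right fun hsub => hP (hsub _)

end WC

lemma map_map (P : X.ProEtᵒᵖ ⥤ ModuleCat.{u + 1} Λ) {A B C : X.ProEt} (f : A ⟶ B) (g : B ⟶ C)
    (x : P.obj (op C)) : (P.map f.op).hom ((P.map g.op).hom x) = (P.map (f ≫ g).op).hom x := by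
  rw [op_comp, Functor.map_comp, ModuleCat.hom_comp, LinearMap.comp_apply]

/-- Natural linear maps on the weakly contractible affines glue to a morphism of sheaves. -/
theorem exists_hom_of_WC (G : X.ProEtᵒᵖ ⥤ ModuleCat.{u + 1} Λ) (F : EtModW.ModP Λ X)
    (φ : ∀ V : X.ProEt, IsAffine V.left → ProEtS.IsWC V → (G.obj (op V) →ₗ[Λ] F.obj.obj (op V)))
    (hφ : ∀ (V V' : X.ProEt) (hA : IsAffine V.left) (hW : ProEtS.IsWC V) (hA' : IsAffine V'.left)
      (hW' : ProEtS.IsWC V') (g : V' ⟶ V) (x : G.obj (op V)),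
      (F.obj.map g.op).hom (φ V hA hW x) = φ V' hA' hW' ((G.map g.op).hom x)) :
    ∃ Φ : G ⟶ F.obj, ∀ (V : X.ProEt) (hA : IsAffine V.left) (hW : ProEtS.IsWC V) (x : G.obj (op V)),
      (Φ.app (op V)).hom x = φ V hA hW x := by
  have hF := (isSheaf_iff_isSheaf_of_type _ _).1
    ((sheafCompose (Scheme.ProEt.topology X) (forget (ModuleCat.{u + 1} Λ))).obj F).property
  let Q : ∀ T : X.ProEt, G.obj (op T) → F.obj.obj (op T) → Prop := fun T x y =>
    ∀ (V : X.ProEt) (hA : IsAffine V.left) (hW : ProEtS.IsWC V) (g : V ⟶ T),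
      (F.obj.map g.op).hom y = φ V hA hW ((G.map g.op).hom x)
  have huniq : ∀ T x y y', Q T x y → Q T x y' → y = y' := fun T x y y' h h' => by
    obtain ⟨V, g, hg, hV⟩ := ProEt.exists_wContractible_family T T.left.affineCover
    refine (hF _ hg).isSeparatedFor.ext ?_
    rintro Y q ⟨Z, c, _, ⟨i⟩, rfl⟩
    have := (hV i).1
    have e := (h (V i) this ((ProEt.isWContractible_iff_isWC (V i)).1 (hV i).2) (g i)).trans
      (h' (V i) this ((ProEt.isWContractible_iff_isWC (V i)).1 (hV i).2) (g i)).symm
    change (F.obj.map (c ≫ g i).op).hom y = (F.obj.map (c ≫ g i).op).hom y'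
    rw [op_comp, Functor.map_comp, ModuleCat.hom_comp, LinearMap.comp_apply, LinearMap.comp_apply, e]
  have hex : ∀ T x, ∃ y, Q T x y := fun T x => by
    obtain ⟨V, g, hg, hV⟩ := ProEt.exists_wContractible_family T T.left.affineCover
    have hW : ∀ i, ProEtS.IsWC (V i) := fun i =>
      have := (hV i).1
      (ProEt.isWContractible_iff_isWC (V i)).1 (hV i).2
    let y : ∀ i, F.obj.obj (op (V i)) := fun i => φ (V i) (hV i).1 (hW i) ((G.map (g i).op).hom x)
    have h := (Presieve.isSheafFor_iff_generate _).2 (hF _ hg)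
    rw [Presieve.isSheafFor_arrows_iff] at h
    obtain ⟨t, ht, -⟩ := h y fun i j Z gi gj hij => by
      obtain ⟨W, b, hb, hWW⟩ := ProEt.exists_wContractible_family Z Z.left.affineCover
      refine (hF _ hb).isSeparatedFor.ext ?_
      rintro Y q ⟨Z', c, _, ⟨l⟩, rfl⟩
      have hA' := (hWW l).1
      have hW' := (ProEt.isWContractible_iff_isWC (W l)).1 (hWW l).2
      have e : ∀ i (gi : Z ⟶ V i), (F.obj.map (b l).op).hom ((F.obj.map gi.op).hom (y i)) =
          φ (W l) hA' hW' ((G.map (b l ≫ gi ≫ g i).op).hom x) := fun i gi => by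
        rw [map_map, hφ (V i) (W l) (hV i).1 (hW i) hA' hW', map_map, Category.assoc]
      change (F.obj.map (c ≫ b l).op).hom ((F.obj.map gi.op).hom (y i)) =
        (F.obj.map (c ≫ b l).op).hom ((F.obj.map gj.op).hom (y j))
      rw [op_comp, Functor.map_comp, ModuleCat.hom_comp, LinearMap.comp_apply, LinearMap.comp_apply,
        e i gi, e j gj, hij]
    refine ⟨t, fun V' hA' hW' k => ?_⟩
    refine (hF _ ((Scheme.ProEt.topology X).pullback_stable k hg)).isSeparatedFor.ext ?_
    rintro Y₀ q ⟨Z, c, _, ⟨i⟩, hc⟩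
    obtain ⟨W, b, hb, hWW⟩ := ProEt.exists_wContractible_family Y₀ Y₀.left.affineCover
    refine (hF _ hb).isSeparatedFor.ext ?_
    rintro Y' q' ⟨Z', c', _, ⟨l⟩, rfl⟩
    have hA'' := (hWW l).1
    have hW'' := (ProEt.isWContractible_iff_isWC (W l)).1 (hWW l).2
    change (F.obj.map (c' ≫ b l).op).hom _ = (F.obj.map (c' ≫ b l).op).hom _
    rw [← map_map F.obj, ← map_map F.obj c']
    refine congrArg _ ?_
    change (F.obj.map (b l).op).hom ((F.obj.map q.op).hom ((F.obj.map k.op).hom t)) =
      (F.obj.map (b l).op).hom ((F.obj.map q.op).hom (φ V' hA' hW' ((G.map k.op).hom x)))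
    rw [map_map F.obj (b l) q (φ V' hA' hW' _), hφ V' (W l) hA' hW' hA'' hW'', map_map, map_map,
      map_map, Category.assoc, ← hc, ← Category.assoc, ← map_map F.obj,
      show (F.obj.map (g i).op).hom t = y i from ht i, hφ (V i) (W l) (hV i).1 (hW i) hA'' hW'', map_map]
  choose y hy using hex
  refine ⟨{ app := fun T => ModuleCat.ofHom
              { toFun := y T.unop
                map_add' := fun a b => huniq _ (a + b) _ _ (hy _ _) fun V hA hW g => by
                  rw [map_add, map_add, map_add, hy T.unop a V hA hW g, hy T.unop b V hA hW g]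
                map_smul' := fun r a => huniq _ (r • a) _ _ (hy _ _) fun V hA hW g => by
                  rw [RingHom.id_apply, map_smul, map_smul, map_smul, hy T.unop a V hA hW g] }
            naturality := fun T T' f => ModuleCat.hom_ext (LinearMap.ext fun x =>
              huniq _ ((G.map f).hom x) _ _ (hy _ _) fun V hA hW g => by
                change (F.obj.map g.op).hom ((F.obj.map f).hom (y T.unop x)) = _
                rw [← LinearMap.comp_apply, ← ModuleCat.hom_comp, ← Functor.map_comp,
                  show f ≫ g.op = (g ≫ f.unop).op from rfl, hy T.unop x V hA hW (g ≫ f.unop), op_comp,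
                  Functor.map_comp, ModuleCat.hom_comp, LinearMap.comp_apply]
                rfl) }, fun V hA hW x => ?_⟩
  have := hy V x V hA hW (𝟙 V)
  rwa [op_id, F.obj.map_id, G.map_id] at this

end Groth.EtaleDeep.DC
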