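import Groth.Agent.EtaleDeep.DC.Hom
import Groth.Agent.EtaleDeep.ProEt.Exact
import Groth.Agent.DerivedCoh.KInj.Products
import Groth.Agent.SiteCohomology.ShriekExact
import Mathlib.Algebra.Homology.DerivedCategory.KInjective
import Mathlib.Algebra.Homology.HomotopyCategory.HomComplexSingle
import Mathlib.Algebra.Homology.HomotopyCategory.HomComplexCohomology

/-!
# Derived completeness is tested on weakly contractible objects
-/

set_option autoImplicit false
set_option backward.isDefEq.respectTransparency.types false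
set_option linter.style.haveILetI false

universe w v u

open CategoryTheory CategoryTheory.Limits AlgebraicGeometry Opposite

namespace Groth.EtaleDeep.DC

open Groth.DerComplete

section General

variable {C : Type u} [Category.{v} C] [Abelian C] [HasDerivedCategory.{w} C]

/-- Cocycles of `Hom (M, I)` are coboundaries in degree `n`. -/
def HomExact (M : C) (I : CochainComplex C ℤ) : Prop :=
  ∀ (k n m : ℤ), k + 1 = n → n + 1 = m → ∀ a : M ⟶ I.X n, a ≫ I.d n m = 0 →
    ∃ b : M ⟶ I.X k, b ≫ I.d k n = a

theorem forall_subsingleton_hom_iff (M : C) (I : CochainComplex C ℤ) [I.IsKInjective]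
    (K : DerivedCategory C) (e : DerivedCategory.Q.obj I ≅ K) :
    (∀ n : ℤ, Subsingleton ((DerivedCategory.singleFunctor C 0).obj M ⟶ K⟦n⟧)) ↔
      HomExact M I := by
  let S := (CochainComplex.singleFunctor C 0).obj M
  have key : ∀ n : ℤ, Subsingleton ((DerivedCategory.singleFunctor C 0).obj M ⟶ K⟦n⟧) ↔
      Subsingleton (CochainComplex.HomComplex.CohomologyClass S I n) := fun n => by
    let eS : (DerivedCategory.singleFunctor C 0).obj M ≅
        DerivedCategory.Qh.obj ((HomotopyCategory.quotient C _).obj S) :=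
      (DerivedCategory.singleFunctorIsoCompQ C 0).app M ≪≫
        ((DerivedCategory.quotientCompQhIso C).app S).symm
    let eI : K⟦n⟧ ≅ DerivedCategory.Qh.obj ((HomotopyCategory.quotient C _).obj (I⟦n⟧)) :=
      (shiftFunctor _ n).mapIso e.symm ≪≫
        ((DerivedCategory.Q.commShiftIso n).app I).symm ≪≫
          ((DerivedCategory.quotientCompQhIso C).app (I⟦n⟧)).symm
    exact ((Iso.homCongr eS eI).trans
      ((Equiv.ofBijective _ (CochainComplex.IsKInjective.Qh_map_bijective _ (I⟦n⟧))).symm.trans
        (CochainComplex.HomComplex.CohomologyClass.homAddEquiv (K := S) (L := I)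
          (n := n)).toEquiv.symm)).subsingleton_congr
  simp only [key]
  constructor
  · intro h k n m hk hm a ha
    have := h n
    have h0 : CochainComplex.HomComplex.CohomologyClass.mk
        (CochainComplex.HomComplex.Cocycle.fromSingleMk a (zero_add n) m hm ha) = 0 :=
      Subsingleton.elim _ _
    rw [CochainComplex.HomComplex.CohomologyClass.mk_eq_zero_iff,
      CochainComplex.HomComplex.mem_coboundaries_iff _ k hk] at h0
    obtain ⟨β, hβ⟩ := h0
    obtain ⟨b, rfl⟩ := CochainComplex.HomComplex.Cochain.fromSingleMk_surjective β k (zero_add k)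
    rw [CochainComplex.HomComplex.Cochain.δ_fromSingleMk b (zero_add k) n n (zero_add n)] at hβ
    refine ⟨b, ?_⟩
    exact (CochainComplex.HomComplex.Cochain.fromSingleEquiv (zero_add n)).symm.injective hβ
  · intro h n
    refine subsingleton_of_forall_eq 0 fun x => ?_
    obtain ⟨α, rfl⟩ := CochainComplex.HomComplex.CohomologyClass.mk_surjective x
    obtain ⟨a, ha, rfl⟩ := CochainComplex.HomComplex.Cocycle.fromSingleMk_surjective α n
      (zero_add n) (n + 1) rfl
    obtain ⟨b, hb⟩ := h (n - 1) n (n + 1) (by omega) rfl a ha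
    rw [CochainComplex.HomComplex.CohomologyClass.mk_eq_zero_iff,
      CochainComplex.HomComplex.mem_coboundaries_iff _ (n - 1) (by omega)]
    refine ⟨CochainComplex.HomComplex.Cochain.fromSingleMk b (zero_add (n - 1)), ?_⟩
    rw [CochainComplex.HomComplex.Cochain.δ_fromSingleMk b (zero_add (n - 1)) n n (zero_add n), hb]
    rfl

end General

variable (Λ : Type (u + 1)) [CommRing Λ] {X : Scheme.{u}}

/-- An epimorphism of sheaves of modules is surjective on weakly contractible objects. -/
theorem surjective_of_epi {F G : EtModW.ModP Λ X} (φ : F ⟶ G) [Epi φ] {V : X.ProEt}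
    (hV : ProEtS.IsWC V) : Function.Surjective (φ.hom.app (op V)) := by
  have : Sheaf.IsLocallySurjective φ :=
    (Sheaf.isLocallySurjective_iff_epi' (ModuleCat.{u + 1} Λ) φ).2 ‹_›
  have : Sheaf.IsLocallySurjective
      ((sheafCompose (Scheme.ProEt.topology X) (forget (ModuleCat.{u + 1} Λ))).map φ) :=
    (Presheaf.isLocallySurjective_iff_whisker_forget _ _).1 ‹_›
  exact hV _ _ _ ((Sheaf.isLocallySurjective_iff_epi' (Type (u + 1)) _).1 this)

theorem preservesHomology_R {V : X.ProEt} (hV : ProEtS.IsWC V) : (R Λ V).PreservesHomology := by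
  have : PreservesLimitsOfSize.{0, 0} (R Λ V) := (adjL Λ V).rightAdjoint_preservesLimits
  have : (R Λ V).PreservesEpimorphisms :=
    ⟨fun φ _ => (ModuleCat.epi_iff_surjective _).2 (surjective_of_epi Λ φ hV)⟩
  exact (R Λ V).preservesHomology_of_preservesEpis_and_kernels

/-- A sheaf with no sections on affine weakly contractible objects is zero. -/
theorem isZero_of_WC (F : EtModW.ModP Λ X)
    (h : ∀ V : X.ProEt, IsAffine V.left → ProEtS.IsWC V → IsZero ((R Λ V).obj F)) : IsZero F := by
  have hF := (isSheaf_iff_isSheaf_of_type _ _).1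
    ((sheafCompose (Scheme.ProEt.topology X) (forget (ModuleCat.{u + 1} Λ))).obj F).property
  have hz : ∀ T, Subsingleton (F.obj.obj T) := fun T => by
    obtain ⟨V, g, hg, hV⟩ := ProEt.exists_wContractible_family T.unop T.unop.left.affineCover
    refine ⟨fun a b => (hF _ hg).isSeparatedFor.ext ?_⟩
    rintro Y q ⟨Z, c, _, ⟨i⟩, rfl⟩
    have := (hV i).1
    have hs : Subsingleton (F.obj.obj (op (V i))) := ModuleCat.subsingleton_of_isZero
      (h (V i) this ((ProEt.isWContractible_iff_isWC (V i)).1 (hV i).2))
    change F.obj.map (c ≫ g i).op a = F.obj.map (c ≫ g i).op b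
    rw [op_comp, Functor.map_comp_apply, Functor.map_comp_apply,
      hs.elim (F.obj.map (g i).op a) (F.obj.map (g i).op b)]
  refine (IsZero.iff_id_eq_zero _).2 (Sheaf.hom_ext (NatTrans.ext (funext fun T => ?_)))
  exact (ModuleCat.isZero_of_subsingleton _).eq_of_src _ _

variable {Λ} (f : Λ)

/-- Sections over a weakly contractible object commute with homology. -/
theorem nonempty_homologyIso (I : CochainComplex (EtModW.ModP Λ X) ℤ) {V : X.ProEt}
    (hV : ProEtS.IsWC V) (n : ℤ) :
    Nonempty ((((R Λ V).mapHomologicalComplex _).obj I).homology n ≅ (R Λ V).obj (I.homology n)) :=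
  haveI := preservesHomology_R Λ hV
  ⟨(I.sc n).mapHomologyIso (R Λ V)⟩

/-- The complex of compatible sequences is exact iff cocycles out of the localization bound. -/
theorem homExact_iff_seqExact (U : X.ProEt) (I : CochainComplex (EtModW.ModP Λ X) ℤ) :
    HomExact (ProEtDC.locExt Λ U f) I ↔
      SeqExact (((R Λ U).mapHomologicalComplex _).obj I) f := by
  let A := ModuleCat.of Λ (Localization.Away f)
  let hom : ∀ G, ((L Λ U).obj A ⟶ G) ≃ (A ⟶ (R Λ U).obj G) := fun G => (adjL Λ U).homEquiv A G
  constructor
  · intro h k n m hk hm x hx hdx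
    obtain ⟨a, rfl⟩ := exists_awayHom f x hx
    obtain ⟨b, hb⟩ := h k n m hk hm ((hom _).symm a) (by
      apply (hom _).injective
      rw [Adjunction.homEquiv_naturality_right, Equiv.apply_symm_apply]
      refine awayHom_injective f (funext fun i => ?_)
      rw [awayHom_comp]
      refine (hdx i).trans (Eq.symm ?_)
      rw [Adjunction.homEquiv_unit, Functor.map_zero, comp_zero]
      exact congrFun (show awayHom f (0 : A ⟶ (R Λ U).obj (I.X m)) = 0 from funext fun i => by
        simp only [awayHom, comp_zero, freeNHom_apply]; rfl) i)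
    refine ⟨awayHom f (hom _ b), sigma_awayHom f _, fun i => ?_⟩
    refine (awayHom_comp f (hom _ b) _ i).symm.trans (congrFun (congrArg (awayHom f) ?_) i)
    exact ((adjL Λ U).homEquiv_naturality_right b (I.d k n)).symm.trans
      ((congrArg (hom _) hb).trans (Equiv.apply_symm_apply _ _))
  · intro h k n m hk hm a ha
    obtain ⟨t, ht0, ht⟩ := h k n m hk hm (awayHom f (hom _ a)) (sigma_awayHom f _) fun i => by
      refine (awayHom_comp f (hom _ a) _ i).symm.trans ?_
      have h0 : hom _ a ≫ (R Λ U).map (I.d n m) = 0 := by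
        refine ((adjL Λ U).homEquiv_naturality_right a (I.d n m)).symm.trans ?_
        rw [ha, Adjunction.homEquiv_unit, Functor.map_zero, comp_zero]
      refine (congrFun (congrArg (awayHom f) h0) i).trans ?_
      simp only [awayHom, comp_zero, freeNHom_apply]
      rfl
    obtain ⟨b, rfl⟩ := exists_awayHom f t ht0
    refine ⟨(hom _).symm b, (hom _).injective ?_⟩
    rw [Adjunction.homEquiv_naturality_right, Equiv.apply_symm_apply]
    exact awayHom_injective f (funext fun i => (awayHom_comp f b _ i).trans (ht i))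

/-- From weakly contractible objects to all objects. -/
theorem homExact_of_WC (I : CochainComplex (EtModW.ModP Λ X) ℤ) [I.IsKInjective]
    (h : ∀ V : X.ProEt, IsAffine V.left → ProEtS.IsWC V → HomExact (ProEtDC.locExt Λ V f) I)
    (U : X.ProEt) : HomExact (ProEtDC.locExt Λ U f) I := by
  let A := ModuleCat.of Λ (Localization.Away f)
  have : PreservesFiniteLimits (Tf Λ X f) :=
    SiteCohomology.preservesFiniteLimits_of_adjunction_of_mono (adjTf Λ X f) fun {F G} φ hφ => by
      have : ∀ T, Mono (φ.hom.app T) := fun T =>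
        inferInstanceAs (Mono (((sheafToPresheaf _ _).map φ).app T))
      have : ∀ T, Mono ((Functor.whiskerRight φ.hom
          (MonoidalCategory.tensorLeft A)).app T) := fun T => tensor_mono Λ (φ.hom.app T) f
      have : Mono (Functor.whiskerRight φ.hom (MonoidalCategory.tensorLeft A)) :=
        NatTrans.mono_of_mono_app _
      exact inferInstanceAs (Mono ((presheafToSheaf _ _).map
        (Functor.whiskerRight φ.hom (MonoidalCategory.tensorLeft A))))
  let adj := adjTf Λ X f
  have : (Hf Λ X f).Additive := adj.right_adjoint_additive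
  let J := ((Hf Λ X f).mapHomologicalComplex (ComplexShape.up ℤ)).obj I
  have : CochainComplex.IsKInjective J :=
    SiteCohomology.isKInjective_map_of_adjunction adj I ‹_›
  have hJ : J.Acyclic := fun n => by
    rw [HomologicalComplex.exactAt_iff_isZero_homology]
    refine isZero_of_WC Λ _ fun V hV hWC => ?_
    obtain ⟨e⟩ := nonempty_homologyIso J hWC n
    refine IsZero.of_iso ?_ e.symm
    rw [← HomologicalComplex.exactAt_iff_isZero_homology,
      HomologicalComplex.exactAt_iff' _ (n - 1) n (n + 1) (CochainComplex.prev _ n)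
        (CochainComplex.next _ n), ShortComplex.moduleCat_exact_iff]
    intro (a : A ⟶ (R Λ V).obj (I.X n)) (ha : a ≫ (R Λ V).map (I.d n (n + 1)) = 0)
    obtain ⟨b, hb⟩ := h V hV hWC (n - 1) n (n + 1) (by omega) rfl
      (((adjL Λ V).homEquiv A _).symm a) (by
        rw [← Adjunction.homEquiv_naturality_right_symm, ha]
        exact (adjL Λ V).homAddEquiv _ _ |>.symm.map_zero)
    refine ⟨(adjL Λ V).homEquiv A _ b, ?_⟩
    change (adjL Λ V).homEquiv A _ b ≫ (R Λ V).map (I.d (n - 1) n) = a
    rw [← Adjunction.homEquiv_naturality_right, hb, Equiv.apply_symm_apply]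
  let c := CochainComplex.IsKInjective.homotopyZero (𝟙 J) hJ
  intro k n m hk hm a ha
  let a' : A ⟶ (R Λ U).obj (I.X n) := (adjL Λ U).homEquiv A _ a
  let s : A ⟶ (R Λ U).obj (I.X k) := ((c.hom n k).hom.app (op U)).hom a'
  refine ⟨((adjL Λ U).homEquiv A _).symm s, ((adjL Λ U).homEquiv A _).injective ?_⟩
  rw [Adjunction.homEquiv_naturality_right, Equiv.apply_symm_apply]
  have hc := congrArg (fun q => (q.hom.app (op U)).hom a') (c.comm n)
  simp only [dNext_eq c.hom (show (ComplexShape.up ℤ).Rel n m from hm),
    prevD_eq c.hom (show (ComplexShape.up ℤ).Rel k n from hk), HomologicalComplex.zero_f,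
    add_zero] at hc
  have hd : a' ≫ (R Λ U).map (I.d n m) = 0 := by
    rw [← Adjunction.homEquiv_naturality_right, ha]
    exact (adjL Λ U).homAddEquiv _ _ |>.map_zero
  change @Eq (A ⟶ (R Λ U).obj (I.X n)) a'
    (@HAdd.hAdd (A ⟶ (R Λ U).obj (I.X n)) (A ⟶ (R Λ U).obj (I.X n)) (A ⟶ (R Λ U).obj (I.X n)) _
      (((c.hom m n).hom.app (op U)).hom (a' ≫ (R Λ U).map (I.d n m)))
      (s ≫ (R Λ U).map (I.d k n))) at hc
  rw [hd] at hc
  refine Eq.symm (hc.trans ?_)
  rw [show ((c.hom m n).hom.app (op U)).hom (0 : A ⟶ (R Λ U).obj (I.X m)) =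
    (0 : A ⟶ (R Λ U).obj (I.X n)) from map_zero _]
  exact zero_add _

/-- An object is derived complete iff its cohomology is complete on weakly contractible objects. -/
theorem forall_subsingleton_iff [HasDerivedCategory.{w} (EtModW.ModP Λ X)]
    (K : DerivedCategory (EtModW.ModP Λ X)) :
    (∀ (U : X.ProEt) (n : ℤ), Subsingleton
      ((DerivedCategory.singleFunctor _ 0).obj (ProEtDC.locExt Λ U f) ⟶ K⟦n⟧)) ↔
    ∀ (V : X.ProEt), IsAffine V.left → ProEtS.IsWC V → ∀ n : ℤ,
      DC f ((R Λ V).obj ((DerivedCategory.homologyFunctor _ n).obj K)) := by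
  obtain ⟨I₀, hI₀, ⟨e₀⟩⟩ := DerivedCoh.KInjRes.exists_kInjective_iso K
  obtain ⟨I, i, _, _, hI, hinj⟩ := DerivedCoh.KInjRes.exists_resolution I₀
  have : IsIso (DerivedCategory.Q.map i) := inferInstance
  let e : DerivedCategory.Q.obj I ≅ K := (asIso (DerivedCategory.Q.map i)).symm ≪≫ e₀
  simp only [forall_subsingleton_hom_iff _ I K e]
  have hs : ∀ (U : X.ProEt) (n : ℤ),
      Function.Surjective (sigma f ((((R Λ U).mapHomologicalComplex _).obj I).X n)) := fun U n =>
    have := hinj n
    sigma_surjective_of_injective f U (I.X n)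
  have hH : ∀ (V : X.ProEt), ProEtS.IsWC V → ∀ n : ℤ,
      (DC f ((R Λ V).obj ((DerivedCategory.homologyFunctor _ n).obj K)) ↔
        DC f ((((R Λ V).mapHomologicalComplex _).obj I).homology n)) := fun V hV n =>
    dc_congr (((R Λ V).mapIso ((DerivedCategory.homologyFunctor _ n).mapIso e.symm ≪≫
      (DerivedCategory.homologyFunctorFactors _ n).app I)) ≪≫
        (nonempty_homologyIso I hV n).some.symm).toLinearEquiv
  constructor
  · intro h V _ hV n
    rw [hH V hV]
    exact dc_homology (hs V) ((homExact_iff_seqExact f V I).1 (h V)) n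
  · intro h U
    refine homExact_of_WC f I (fun V hVa hV => ?_) U
    rw [homExact_iff_seqExact]
    exact seqExact_of_dc (hs V) fun n => (hH V hV n).1 (h V hVa hV n)

end Groth.EtaleDeep.DC
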