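import Groth.Agent.EtaleDeep.DC.Complex
import Groth.Agent.Misc1.Telescope
import Groth.Prelude.Def_ProEtDC
import Mathlib.Algebra.Category.ModuleCat.Monoidal.Closed
import Mathlib.CategoryTheory.Sites.Adjunction

/-!
# Extensions by zero of constant sheaves of modules on the small pro-etale site
-/

set_option autoImplicit false
set_option backward.isDefEq.respectTransparency.types false
set_option linter.style.haveILetI false

universe u

open CategoryTheory CategoryTheory.Limits AlgebraicGeometry Opposite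

namespace Groth.EtaleDeep.DC

open Groth.DerComplete

variable (Λ : Type (u + 1)) [CommRing Λ] {X : Scheme.{u}}

/-- Sections over `U`. -/
noncomputable abbrev R (U : X.ProEt) : EtModW.ModP Λ X ⥤ ModuleCat.{u + 1} Λ :=
  (sheafSections (Scheme.ProEt.topology X) (ModuleCat.{u + 1} Λ)).obj (op U)

/-- Extension by zero of constant sheaves from `U`. -/
noncomputable abbrev L (U : X.ProEt) : ModuleCat.{u + 1} Λ ⥤ EtModW.ModP Λ X :=
  constantSheaf ((Scheme.ProEt.topology X).over U) (ModuleCat.{u + 1} Λ) ⋙ ProEtDC.extZeroModP Λ U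

/-- `L ⊣ R`. -/
noncomputable def adjL (U : X.ProEt) : L Λ U ⊣ R Λ U :=
  (constantSheafAdj ((Scheme.ProEt.topology X).over U) (ModuleCat.{u + 1} Λ) Over.mkIdTerminal).comp
    ((Over.forget U).sheafAdjunctionContinuous (ModuleCat.{u + 1} Λ)
      ((Scheme.ProEt.topology X).over U) (Scheme.ProEt.topology X))

instance (U : X.ProEt) : (R Λ U).Additive where
  map_add {F G f g} := rfl

theorem isLeftAdjoint_L (U : X.ProEt) : (L Λ U).IsLeftAdjoint := (adjL Λ U).isLeftAdjoint

instance (U : X.ProEt) : (L Λ U).Additive := (adjL Λ U).left_adjoint_additive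

instance hasExactColimitsOfShape_nat : HasExactColimitsOfShape ℕ (EtModW.ModP Λ X) := by
  have : IsFiltered (AsSmall.{u + 1} ℕ) := IsFiltered.of_equivalence AsSmall.equiv
  have := AB5OfSize.ofShape (C := EtModW.ModP Λ X) (AsSmall.{u + 1} ℕ)
  exact HasExactColimitsOfShape.of_domain_equivalence _ AsSmall.equiv.symm

variable {Λ}

/-- Multiplication by `f` on `Λ`. -/
noncomputable abbrev mulMap (f : Λ) : ModuleCat.of Λ Λ ⟶ ModuleCat.of Λ Λ :=
  ModuleCat.ofHom (f • LinearMap.id)

/-- The inclusion of the `n`-th summand. -/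
noncomputable abbrev incl (n : ℕ) : ModuleCat.of Λ Λ ⟶ freeN Λ :=
  ModuleCat.ofHom (Finsupp.lsingle n)

/-- `freeN` is the coproduct. -/
noncomputable def isColimitIncl : IsColimit (Cofan.mk (freeN Λ) (incl (Λ := Λ))) :=
  Cofan.IsColimit.mk _
    (fun s => ModuleCat.ofHom (Finsupp.lsum ℕ fun n => (s.inj n).hom))
    (fun s n => ModuleCat.hom_ext (LinearMap.ext fun a => Finsupp.lsum_single ℕ _ n a))
    (fun s m hm => ModuleCat.hom_ext (Finsupp.lhom_ext fun n a =>
      (ConcreteCategory.congr_hom (hm n) a).trans (Finsupp.lsum_single ℕ (fun n => (s.inj n).hom) n a).symm))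

lemma incl_step (f : Λ) (n : ℕ) :
    incl n ≫ ModuleCat.ofHom (stepMap f) = incl n - mulMap f ≫ incl (n + 1) := by
  refine ModuleCat.hom_ext (LinearMap.ext_ring ?_)
  change stepMap f (Finsupp.single n 1) = Finsupp.single n 1 - Finsupp.single (n + 1) (f • (1 : Λ))
  rw [stepMap_single, Finsupp.smul_single]

variable (f : Λ) (U : X.ProEt)

/-- `L` keeps the presentation of the localization exact. -/
theorem mono_L_step : Mono ((L Λ U).map (ModuleCat.ofHom (stepMap f))) := by
  have := isLeftAdjoint_L Λ U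
  let P := (L Λ U).obj (ModuleCat.of Λ Λ)
  have : PreservesColimitsOfShape (Discrete ℕ) (L Λ U) :=
    have : PreservesColimitsOfSize.{0, 0} (L Λ U) := (adjL Λ U).leftAdjoint_preservesColimits
    inferInstance
  have hL := isColimitCofanMkObjOfIsColimit (L Λ U) _ _ (isColimitIncl (Λ := Λ))
  let θ : (∐ fun _ : ℕ => P) ≅ (L Λ U).obj (freeN Λ) :=
    IsColimit.coconePointUniqueUpToIso (coproductIsCoproduct _) hL
  have hθ : ∀ n, Sigma.ι (fun _ : ℕ => P) n ≫ θ.hom = (L Λ U).map (incl n) := fun n =>
    IsColimit.comp_coconePointUniqueUpToIso_hom (coproductIsCoproduct _) hL ⟨n⟩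
  let d := 𝟙 (∐ fun _ : ℕ => P) -
    DerLim.shiftMap (fun _ : ℕ => P) (fun _ => (L Λ U).map (mulMap f))
  have : Mono d := Misc1.Telescope.mono_one_sub_shift _ _
  have e : (L Λ U).map (ModuleCat.ofHom (stepMap f)) = θ.inv ≫ d ≫ θ.hom := by
    rw [Iso.eq_inv_comp]
    refine Sigma.hom_ext _ _ fun n => ?_
    rw [← Category.assoc, hθ, ← Functor.map_comp, incl_step, Functor.map_sub, Functor.map_comp]
    simp only [d, Preadditive.sub_comp, Category.id_comp, Preadditive.comp_sub, DerLim.shiftMap,
      Sigma.ι_desc_assoc, Category.assoc, hθ]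
  rw [e]
  infer_instance

/-- Sections of injective sheaves satisfy the surjectivity half. -/
theorem sigma_surjective_of_injective (I : EtModW.ModP Λ X) [Injective I] :
    Function.Surjective (sigma f ((R Λ U).obj I)) := by
  intro y
  obtain ⟨g, hg⟩ := (freeNHom ((R Λ U).obj I)).surjective y
  have := mono_L_step f U
  refine ⟨freeNHom _ ((adjL Λ U).homEquiv _ _
    (Injective.factorThru (((adjL Λ U).homEquiv _ _).symm g)
      ((L Λ U).map (ModuleCat.ofHom (stepMap f))))), ?_⟩
  rw [← freeNHom_step, ← Adjunction.homEquiv_naturality_left, Injective.comp_factorThru,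
    Equiv.apply_symm_apply, hg]

/-- Maps out of the localization as compatible sequences. -/
noncomputable def awayHom {N : ModuleCat.{u + 1} Λ}
    (a : ModuleCat.of Λ (Localization.Away f) ⟶ N) : ℕ → N :=
  freeNHom N ((awaySC f).g ≫ a)

lemma sigma_awayHom {N : ModuleCat.{u + 1} Λ}
    (a : ModuleCat.of Λ (Localization.Away f) ⟶ N) : sigma f N (awayHom f a) = 0 := by
  rw [awayHom, ← freeNHom_step, ← Category.assoc]
  change freeNHom N (((awaySC f).f ≫ (awaySC f).g) ≫ a) = 0
  rw [(awaySC f).zero, zero_comp]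
  funext n
  rw [freeNHom_apply]
  rfl

lemma awayHom_injective {N : ModuleCat.{u + 1} Λ} :
    Function.Injective (awayHom (N := N) f) := fun a b h => by
  have := (awaySC_shortExact f).epi_g
  exact (cancel_epi (awaySC f).g).1 ((freeNHom N).injective h)

lemma exists_awayHom {N : ModuleCat.{u + 1} Λ} (x : ℕ → N) (hx : sigma f N x = 0) :
    ∃ a, awayHom f a = x := by
  obtain ⟨g, rfl⟩ := (freeNHom N).surjective x
  have h0 : (awaySC f).f ≫ g = 0 := (freeNHom N).injective <| by
    rw [freeNHom_step, hx]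
    funext n
    rw [freeNHom_apply]
    rfl
  have := (awaySC_shortExact f).epi_g
  obtain ⟨a, ha⟩ : ∃ a, (awaySC f).g ≫ a = g :=
    ⟨_, (awaySC_shortExact f).gIsCokernel.fac (CokernelCofork.ofπ g h0) WalkingParallelPair.one⟩
  exact ⟨a, congrArg (freeNHom N) ha⟩

lemma awayHom_comp {N N' : ModuleCat.{u + 1} Λ} (a : ModuleCat.of Λ (Localization.Away f) ⟶ N)
    (φ : N ⟶ N') (n : ℕ) : awayHom f (a ≫ φ) n = φ (awayHom f a n) := by
  simp only [awayHom, freeNHom_apply, ConcreteCategory.comp_apply]

variable (Λ) (X)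

/-- Sheaves of homomorphisms out of the constant localization. -/
noncomputable abbrev Hf (f : Λ) : EtModW.ModP Λ X ⥤ EtModW.ModP Λ X :=
  sheafCompose (Scheme.ProEt.topology X) (ihom (ModuleCat.of Λ (Localization.Away f)))

/-- Its left adjoint. -/
noncomputable abbrev Tf (f : Λ) : EtModW.ModP Λ X ⥤ EtModW.ModP Λ X :=
  Sheaf.composeAndSheafify (Scheme.ProEt.topology X)
    (MonoidalCategory.tensorLeft (ModuleCat.of Λ (Localization.Away f)))

/-- `Tf ⊣ Hf`. -/
noncomputable def adjTf (f : Λ) : Tf Λ X f ⊣ Hf Λ X f :=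
  Sheaf.adjunction _ (ihom.adjunction _)

theorem tensor_mono {M N : ModuleCat.{u + 1} Λ} (φ : M ⟶ N) [Mono φ] (f : Λ) :
    Mono ((MonoidalCategory.tensorLeft (ModuleCat.of Λ (Localization.Away f))).map φ) := by
  have : Module.Flat Λ (Localization.Away f) :=
    IsLocalization.flat (Localization.Away f) (Submonoid.powers f)
  exact (ModuleCat.mono_iff_injective _).2
    (Module.Flat.lTensor_preserves_injective_linearMap φ.hom ((ModuleCat.mono_iff_injective φ).1 ‹_›))

end Groth.EtaleDeep.DC
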