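import Groth.Agent.EtaleDeep.DC.Criterion
import Mathlib.Algebra.Homology.DerivedCategory.TStructure
import Mathlib.Algebra.Homology.DerivedCategory.Ext.Basic
import Mathlib.Algebra.Category.ModuleCat.Kernels

/-!
# Derived complete sheaves of modules on the pro-etale site
-/

set_option autoImplicit false
set_option backward.isDefEq.respectTransparency.types false
set_option linter.style.haveILetI false

universe u

open CategoryTheory CategoryTheory.Limits AlgebraicGeometry Opposite

attribute [local instance] HasDerivedCategory.standard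

namespace Groth.EtaleDeep.DC

open Groth.DerComplete

variable {Λ : Type (u + 1)} [CommRing Λ] {X : Scheme.{u}} {I : Ideal Λ}

theorem isDC_iff (K : ProEtDC.DP Λ X) :
    ProEtDC.IsDC Λ I K ↔ ∀ f ∈ I, ∀ (V : X.ProEt), IsAffine V.left → ProEtS.IsWC V → ∀ n : ℤ,
      DC f ((R Λ V).obj (ProEtDC.HDP K n)) :=
  ⟨fun h f hf => (forall_subsingleton_iff f K).1 fun U n => h U f hf n,
    fun h U f hf n => (forall_subsingleton_iff f K).2 (h f hf) U n⟩

lemma isDCSheaf_iff_isDC (F : EtModW.ModP Λ X) :
    ProEtDC.IsDCSheaf Λ I F ↔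
      ProEtDC.IsDC Λ I ((DerivedCategory.singleFunctor (EtModW.ModP Λ X) 0).obj F) := by
  constructor
  · intro h U f hf n
    rcases n with n | n
    · exact Abelian.Ext.homEquiv.symm.subsingleton_congr.2 (h U f hf n)
    · let S := (DerivedCategory.singleFunctor (EtModW.ModP Λ X) 0).obj F
      have : DerivedCategory.TStructure.t.IsGE S 0 := inferInstanceAs (S.IsGE 0)
      have : DerivedCategory.TStructure.t.IsLE
          ((DerivedCategory.singleFunctor (EtModW.ModP Λ X) 0).obj (ProEtDC.locExt Λ U f)) 0 :=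
        inferInstanceAs (DerivedCategory.IsLE _ 0)
      have : DerivedCategory.TStructure.t.IsGE (S⟦Int.negSucc n⟧) (-Int.negSucc n) :=
        DerivedCategory.TStructure.t.isGE_shift S 0 (Int.negSucc n) _ (by omega)
      exact subsingleton_of_forall_eq 0 fun g =>
        DerivedCategory.TStructure.t.zero_of_isLE_of_isGE g 0 (-Int.negSucc n) (by omega) ‹_› ‹_›
  · intro h U f hf n
    exact Abelian.Ext.homEquiv.subsingleton_congr.2 (h U f hf n)

/-- A sheaf is derived complete iff its sections on weakly contractible objects are. -/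
theorem isDCSheaf_iff (F : EtModW.ModP Λ X) :
    ProEtDC.IsDCSheaf Λ I F ↔ ∀ f ∈ I, ∀ (V : X.ProEt), IsAffine V.left → ProEtS.IsWC V →
      DC f ((R Λ V).obj F) := by
  rw [isDCSheaf_iff_isDC, isDC_iff]
  let e₀ : ProEtDC.HDP ((DerivedCategory.singleFunctor (EtModW.ModP Λ X) 0).obj F) 0 ≅ F :=
    (DerivedCategory.singleFunctorCompHomologyFunctorIso _ 0).app F
  constructor
  · exact fun h f hf V hV hW => (dc_congr ((R Λ V).mapIso e₀).toLinearEquiv).1 (h f hf V hV hW 0)
  · intro h f hf V hV hW n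
    by_cases hn : n = 0
    · subst hn
      exact (dc_congr ((R Λ V).mapIso e₀).toLinearEquiv).2 (h f hf V hV hW)
    · have hz : IsZero (ProEtDC.HDP ((DerivedCategory.singleFunctor (EtModW.ModP Λ X) 0).obj F) n) := by
        rcases lt_or_gt_of_ne hn with hlt | hgt
        · exact DerivedCategory.isZero_of_isGE _ 0 n hlt
        · exact DerivedCategory.isZero_of_isLE _ 0 n hgt
      have := ModuleCat.subsingleton_of_isZero ((R Λ V).map_isZero hz)
      exact dc_of_subsingleton

theorem dc_of_exact {S : ShortComplex (ModuleCat.{u + 1} Λ)} (hS : S.ShortExact) {f : Λ}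
    (h₁ : DC f S.X₁) (h₃ : DC f S.X₃) : DC f S.X₂ := by
  have hi := (ModuleCat.mono_iff_injective _).1 hS.mono_f
  have hp := (ModuleCat.epi_iff_surjective _).1 hS.epi_g
  refine dc_of_extension (LinearMap.range S.f.hom)
    (h₁.congr (LinearEquiv.ofInjective S.f.hom hi))
    (h₃.congr (LinearEquiv.trans (S.g.hom.quotKerEquivOfSurjective hp).symm
      (Submodule.quotEquivOfEq _ _ hS.exact.moduleCat_range_eq_ker.symm)))

theorem isDCSheaf_kernel_cokernel {F G : EtModW.ModP Λ X} (φ : F ⟶ G)
    (hF : ProEtDC.IsDCSheaf Λ I F) (hG : ProEtDC.IsDCSheaf Λ I G) :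
    ProEtDC.IsDCSheaf Λ I (kernel φ) ∧ ProEtDC.IsDCSheaf Λ I (cokernel φ) := by
  rw [isDCSheaf_iff] at hF hG ⊢
  rw [isDCSheaf_iff]
  refine ⟨fun f hf V hV hW => ?_, fun f hf V hV hW => ?_⟩
  · have := preservesHomology_R Λ hW
    have := Functor.PreservesHomology.preservesKernel (R Λ V) φ
    exact (dc_congr (PreservesKernel.iso (R Λ V) φ ≪≫
      ModuleCat.kernelIsoKer _).toLinearEquiv).2
        ((hF f hf V hV hW).ker (hG f hf V hV hW) _)
  · have := preservesHomology_R Λ hW
    have := Functor.PreservesHomology.preservesCokernel (R Λ V) φ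
    exact (dc_congr (PreservesCokernel.iso (R Λ V) φ ≪≫
      ModuleCat.cokernelIsoRangeQuotient _).toLinearEquiv).2
        ((hF f hf V hV hW).coker (hG f hf V hV hW) _)

theorem isDCSheaf_of_shortExact {S : ShortComplex (EtModW.ModP Λ X)} (hS : S.ShortExact)
    (h₁ : ProEtDC.IsDCSheaf Λ I S.X₁) (h₃ : ProEtDC.IsDCSheaf Λ I S.X₃) :
    ProEtDC.IsDCSheaf Λ I S.X₂ := by
  rw [isDCSheaf_iff] at h₁ h₃ ⊢
  intro f hf V hV hW
  have := preservesHomology_R Λ hW
  have : PreservesFiniteLimits (R Λ V) :=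
    have : PreservesLimitsOfSize.{0, 0} (R Λ V) := (adjL Λ V).rightAdjoint_preservesLimits
    PreservesLimitsOfSize.preservesFiniteLimits _
  have hex := hS.exact.map (R Λ V)
  have := hS.mono_f
  have := hS.epi_g
  exact dc_of_exact
    (ShortComplex.ShortExact.mk' hex (inferInstanceAs (Mono ((R Λ V).map S.f)))
      (inferInstanceAs (Epi ((R Λ V).map S.g))))
    (h₁ f hf V hV hW) (h₃ f hf V hV hW)

theorem isDCSheaf_limit (D : ℕᵒᵖ ⥤ EtModW.ModP Λ X)
    (hD : ∀ n : ℕ, ProEtDC.IsDCSheaf Λ I (D.obj (op n))) : ProEtDC.IsDCSheaf Λ I (limit D) := by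
  simp only [isDCSheaf_iff] at hD ⊢
  intro f hf V hV hW
  have : PreservesLimitsOfSize.{0, 0} (R Λ V) := (adjL Λ V).rightAdjoint_preservesLimits
  let c := (R Λ V).mapCone (limit.cone D)
  let hc : IsLimit c := isLimitOfPreserves _ (limit.isLimit D)
  let hc' := isLimitOfPreserves (forget (ModuleCat.{u + 1} Λ)) hc
  let π : ∀ j, (R Λ V).obj (limit D) →ₗ[Λ] (R Λ V).obj (D.obj j) := fun j => (c.π.app j).hom
  refine DC.mk (fun x hx => funext fun i => ?_) fun y => ?_
  · refine Concrete.isLimit_ext _ hc _ _ fun j => ?_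
    refine ((hD j.unop f hf V hV hW).eq_zero (fun i => π j (x i)) (fun i => ?_) i).trans
      (map_zero _).symm
    exact (congrArg (π j) (hx i)).trans ((π j).map_smul f _)
  · choose z hz using fun j : ℕᵒᵖ =>
      (hD j.unop f hf V hV hW).exists_sum (fun i => π j (y i))
    have hcompat : ∀ {j k : ℕᵒᵖ} (g : j ⟶ k) (i : ℕ), ((R Λ V).map (D.map g)).hom (z j i) = z k i := by
      intro j k g i
      refine congrFun ((hD k.unop f hf V hV hW).unique (y := fun i => π k (y i))
        (x := fun i => ((R Λ V).map (D.map g)).hom (z j i)) (fun i => ?_) (hz k)) i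
      rw [hz j i, map_add, map_smul]
      exact congrArg (· + _) (ConcreteCategory.congr_hom (c.w g) (y i))
    have hex : ∀ i : ℕ, ∃ w : (R Λ V).obj (limit D), ∀ j, π j w = z j i := fun i =>
      ⟨(Types.isLimitEquivSections hc').symm ⟨fun j => z j i, fun g => hcompat g i⟩,
        fun j => Types.isLimitEquivSections_symm_apply hc' _ j⟩
    choose w hw using hex
    refine ⟨w, fun i => Concrete.isLimit_ext _ hc _ _ fun j => ?_⟩
    refine (hw i j).trans ((hz j i).trans ?_)
    change _ = π j (y i + f • w (i + 1))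
    rw [map_add, map_smul, hw]

theorem isDCSheaf_constant (M : ModuleCat.{u + 1} Λ) (n : ℕ) (hM : ∀ a ∈ I ^ n, ∀ m : M, a • m = 0) :
    ProEtDC.IsDCSheaf Λ I
      ((constantSheaf (Scheme.ProEt.topology X) (ModuleCat.{u + 1} Λ)).obj M) := by
  rw [isDCSheaf_iff]
  intro f hf V hV hW
  refine DC.of_pow (k := n) ?_
  let J := Scheme.ProEt.topology X
  let F := (constantSheaf J (ModuleCat.{u + 1} Λ)).obj M
  let η := toSheafify J ((Functor.const (X.ProEt)ᵒᵖ).obj M)
  have hF := (isSheaf_iff_isSheaf_of_type _ _).1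
    ((sheafCompose J (forget (ModuleCat.{u + 1} Λ))).obj F).property
  have h0 : ∀ s : (R Λ V).obj F, f ^ n • s = 0 := fun s => by
    refine (hF _ (Presheaf.imageSieve_mem J η s)).isSeparatedFor.ext ?_
    intro Y q hq
    obtain ⟨m, hm⟩ := hq
    change (F.obj.map q.op).hom (f ^ n • s) = (F.obj.map q.op).hom 0
    have hm' : (F.obj.map q.op).hom s = (η.app (op Y)).hom m := hm.symm
    rw [map_smul, map_zero, hm']
    refine ((η.app (op Y)).hom.map_smul (f ^ n) m).symm.trans ?_
    exact (congrArg (η.app (op Y)).hom (hM _ (Ideal.pow_mem_pow hf n) m)).trans (map_zero _)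
  refine DC.mk (fun x hx => funext fun i => ?_) fun y => ⟨y, fun i => ?_⟩
  · exact (hx i).trans (h0 _)
  · rw [h0, add_zero]

theorem isZero_of_modGensIsZero {r : ℕ} (a : Fin r → Λ) (F : EtModW.ModP Λ X)
    (hF : ProEtDC.IsDCSheaf Λ (Ideal.span (Set.range a)) F) (h0 : ProEtDC.ModGensIsZero Λ a F) :
    IsZero F := by
  classical
  rw [isDCSheaf_iff] at hF
  refine isZero_of_WC Λ F fun V hV hW => ?_
  have : Epi (ProEtDC.gensMap Λ a F) := h0
  have hs := surjective_of_epi Λ (ProEtDC.gensMap Λ a F) hW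
  have := subsingleton_of_span_smul_top (Finset.univ.image a) ((R Λ V).obj F)
    (fun t ht => by
      obtain ⟨k, -, rfl⟩ := Finset.mem_image.1 ht
      exact hF _ (Ideal.subset_span ⟨k, rfl⟩) V hV hW) (by
      rw [eq_top_iff]
      intro s _
      obtain ⟨t, rfl⟩ := hs s
      let Q := ⨁ fun _ : Fin r => F
      have htot : ProEtDC.gensMap Λ a F =
          ∑ k, biproduct.π (fun _ : Fin r => F) k ≫ ProEtDC.smulHom Λ F (a k) := biproduct.desc_eq
      have happ : ((R Λ V).map (ProEtDC.gensMap Λ a F)).hom t =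
          ∑ k, a k • ((R Λ V).map (biproduct.π (fun _ : Fin r => F) k)).hom t := by
        rw [htot, Functor.map_sum, ModuleCat.hom_sum, LinearMap.sum_apply]
        rfl
      exact happ ▸ Submodule.sum_mem _ fun k _ => Submodule.smul_mem_smul
        (Ideal.subset_span (Finset.mem_image_of_mem a (Finset.mem_univ k))) Submodule.mem_top)
  exact ModuleCat.isZero_of_subsingleton _

end Groth.EtaleDeep.DC
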