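import Groth.Agent.EtaleDeep.DC.ConstWC
import Groth.Agent.EtaleDeep.DC.Sheaves
import Groth.Agent.EtaleDeep.AdicP.LimEpi
import Groth.Agent.EtaleDeep.Eps.Derived
import Groth.Agent.DerComplete.Series

/-!
# Morphisms out of the completed constant sheaf into derived complete sheaves
-/

set_option autoImplicit false
set_option backward.isDefEq.respectTransparency.types false
set_option linter.style.haveILetI false

universe u

open CategoryTheory CategoryTheory.Limits AlgebraicGeometry Opposite

namespace Groth.EtaleDeep.DC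

open Groth.DerComplete

variable {Λ : Type (u + 1)} [CommRing Λ] {X : Scheme.{u}} (I : Ideal Λ)

/-- The reduction of the constant sheaf. -/
noncomputable abbrev proj (X : Scheme.{u}) (n : ℕ) :
    cM X (ModuleCat.of Λ Λ) ⟶ cM X ((ProEtDC.quotTower Λ I).obj (op n)) :=
  (constantSheaf (Scheme.ProEt.topology X) (ModuleCat.{u + 1} Λ)).map
    (ModuleCat.ofHom (Submodule.mkQ (I ^ n • ⊤ : Submodule Λ Λ)))

/-- The projection of the completed constant sheaf. -/
noncomputable abbrev projHat (X : Scheme.{u}) (n : ℕ) :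
    ProEtDC.lambdaHat Λ X I ⟶ cM X ((ProEtDC.quotTower Λ I).obj (op n)) :=
  limit.π (ProEtDC.quotTower Λ I ⋙ constantSheaf (Scheme.ProEt.topology X) (ModuleCat.{u + 1} Λ)) (op n)

lemma proj_transition (n : ℕ) :
    proj I X (n + 1) ≫ (constantSheaf (Scheme.ProEt.topology X) (ModuleCat.{u + 1} Λ)).map
      ((ProEtDC.quotTower Λ I).map (homOfLE (Nat.le_succ n)).op) = proj I X n := by
  rw [← Functor.map_comp]
  rfl

theorem proj_eq_zero_iff {V : X.ProEt} [IsAffine V.left] (hV : ProEtS.IsWC V) (n : ℕ)
    (x : (cM X (ModuleCat.of Λ Λ)).obj.obj (op V)) :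
    ((proj I X n).hom.app (op V)).hom x = 0 ↔
      x ∈ I ^ n • (⊤ : Submodule Λ ((cM X (ModuleCat.of Λ Λ)).obj.obj (op V))) := by
  have hk : (LinearMap.ker (ModuleCat.ofHom (Submodule.mkQ (I ^ n • ⊤ : Submodule Λ Λ))).hom : Ideal Λ) =
      I ^ n := by
    rw [ModuleCat.hom_ofHom, Submodule.ker_mkQ]
    exact Ideal.mul_top _
  have := cM_map_eq_zero_iff hV (ModuleCat.ofHom (Submodule.mkQ (I ^ n • ⊤ : Submodule Λ Λ))) x
  rw [hk] at this
  exact this

/-- Global sections spanned by a family locally. -/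
theorem exists_hom_const (F : EtModW.ModP Λ X) (s : F.obj.obj (op (ProEtS.topP X))) :
    ∃ ψ : cM X (ModuleCat.of Λ Λ) ⟶ F,
      (ψ.hom.app (op (ProEtS.topP X))).hom (cst (ModuleCat.of Λ Λ) (ProEtS.topP X) (1 : Λ)) = s := by
  let hT := Eps.isTerminalTopP X
  let p : (Functor.const (X.ProEt)ᵒᵖ).obj (ModuleCat.of Λ Λ) ⟶ F.obj :=
    { app := fun T => ModuleCat.ofHom
        (LinearMap.toSpanSingleton Λ _ ((F.obj.map (hT.from T.unop).op).hom s))
      naturality := fun T T' f => ModuleCat.hom_ext (LinearMap.ext fun c => by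
        change c • (F.obj.map (hT.from T'.unop).op).hom s =
          (F.obj.map f).hom (c • (F.obj.map (hT.from T.unop).op).hom s)
        rw [map_smul, ← LinearMap.comp_apply, ← ModuleCat.hom_comp, ← Functor.map_comp]
        refine congrArg (fun e => c • (F.obj.map e).hom s) ?_
        exact Quiver.Hom.unop_inj (hT.hom_ext _ _)) }
  refine ⟨⟨sheafifyLift _ p F.property⟩, ?_⟩
  refine (ConcreteCategory.congr_hom
    (congrArg (fun e => e.app (op (ProEtS.topP X))) (toSheafify_sheafifyLift _ p F.property)) (1 : Λ)).trans ?_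
  change (1 : Λ) • (F.obj.map (hT.from (ProEtS.topP X)).op).hom s = s
  rw [one_smul, hT.hom_ext (hT.from (ProEtS.topP X)) (𝟙 _), op_id, F.obj.map_id]
  rfl

/-- A global section of the completed constant sheaf with given reductions. -/
theorem exists_lift_section (V : X.ProEt) (s : (cM X (ModuleCat.of Λ Λ)).obj.obj (op V)) :
    ∃ x, ∀ n, ((projHat I X n).hom.app (op V)).hom x = ((proj I X n).hom.app (op V)).hom s :=
  AdicP.exists_section (ProEtDC.quotTower Λ I ⋙ constantSheaf (Scheme.ProEt.topology X) (ModuleCat.{u + 1} Λ))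
    V (fun n => ((proj I X n).hom.app (op V)).hom s) fun n =>
    ConcreteCategory.congr_hom (congrArg (fun e => e.hom.app (op V)) (proj_transition I n)) s

section Gens

variable [IsNoetherianRing Λ] {r : ℕ} (a : Fin r → Λ)

/-- A series representing a section of the completed constant sheaf. -/
def IsRep (V : X.ProEt) (x : (ProEtDC.lambdaHat Λ X (Ideal.span (Set.range a))).obj.obj (op V))
    (y : (Fin r →₀ ℕ) → (cM X (ModuleCat.of Λ Λ)).obj.obj (op V)) : Prop :=
  ∀ n, ((projHat (Ideal.span (Set.range a)) X n).hom.app (op V)).hom x =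
    ((proj (Ideal.span (Set.range a)) X n).hom.app (op V)).hom (partialSum a n y)

omit [IsNoetherianRing Λ] in
theorem exists_isRep {V : X.ProEt} [IsAffine V.left] (hV : ProEtS.IsWC V)
    (x : (ProEtDC.lambdaHat Λ X (Ideal.span (Set.range a))).obj.obj (op V)) : ∃ y, IsRep a V x y := by
  unfold IsRep
  revert x
  set I := Ideal.span (Set.range a)
  intro x
  choose l hl using fun n => cM_map_surjective hV
    (ModuleCat.ofHom (Submodule.mkQ (I ^ n • ⊤ : Submodule Λ Λ))) (Submodule.mkQ_surjective _)
    (((projHat I X n).hom.app (op V)).hom x)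
  have h0 : ∀ z, ((proj I X 0).hom.app (op V)).hom z = 0 := fun z =>
    (proj_eq_zero_iff I hV 0 z).2 (by rw [pow_zero, Ideal.one_eq_top, Submodule.top_smul]; trivial)
  let s : ℕ → (cM X (ModuleCat.of Λ Λ)).obj.obj (op V) := fun n => if n = 0 then 0 else l n
  have hs : ∀ n, ((proj I X n).hom.app (op V)).hom (s n) = ((projHat I X n).hom.app (op V)).hom x := by
    rintro (- | n)
    · rw [← hl 0]
      exact (h0 _).trans (h0 _).symm
    · exact hl (n + 1)
  have hd : ∀ n, s (n + 1) - s n ∈ I ^ n • (⊤ : Submodule Λ _) := fun n => by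
    rw [← proj_eq_zero_iff I hV, map_sub, hs n, sub_eq_zero]
    rw [← ConcreteCategory.congr_hom (congrArg (fun e => e.hom.app (op V)) (proj_transition I n)) (s (n + 1))]
    change (((constantSheaf (Scheme.ProEt.topology X) (ModuleCat.{u + 1} Λ)).map
      ((ProEtDC.quotTower Λ I).map (homOfLE (Nat.le_succ n)).op)).hom.app (op V)).hom
        (((proj I X (n + 1)).hom.app (op V)).hom _) = _
    rw [hs (n + 1)]
    exact ConcreteCategory.congr_hom (congrArg (fun e => e.hom.app (op V))
      (limit.w (ProEtDC.quotTower Λ I ⋙ constantSheaf (Scheme.ProEt.topology X) (ModuleCat.{u + 1} Λ))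
        (homOfLE (Nat.le_succ n)).op)) x
  choose w hw using fun n => exists_homSum_eq a n _ (hd n)
  refine ⟨fun μ => w μ.degree μ, fun n => ?_⟩
  have hS : ∀ n, partialSum a n (fun μ => w μ.degree μ) = s n := by
    intro n
    induction n with
    | zero => exact Finset.sum_range_zero _
    | succ n ih => rw [partialSum_succ, ih, homSum_congr a (z := w n) (fun μ hμ => by simp only [hμ]), hw n,
        add_sub_cancel]
  rw [hS, hs]

theorem seriesSum_eq_of_isRep (F : EtModW.ModP Λ X) (ψ : cM X (ModuleCat.of Λ Λ) ⟶ F) {V : X.ProEt}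
    [IsAffine V.left] (hV : ProEtS.IsWC V) (hF : ∀ i, DC (a i) (F.obj.obj (op V)))
    {x : (ProEtDC.lambdaHat Λ X (Ideal.span (Set.range a))).obj.obj (op V)}
    {y y' : (Fin r →₀ ℕ) → (cM X (ModuleCat.of Λ Λ)).obj.obj (op V)}
    (h : IsRep a V x y) (h' : IsRep a V x y') :
    seriesSum a hF (fun μ => (ψ.hom.app (op V)).hom (y μ)) =
      seriesSum a hF (fun μ => (ψ.hom.app (op V)).hom (y' μ)) := by
  have h0 := seriesSum_eq_zero (cM_trivialRelation hV) a hF (ψ.hom.app (op V)).hom (y - y') fun n => by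
    rw [← proj_eq_zero_iff _ hV]
    have : partialSum a n (y - y') = partialSum a n y - partialSum a n y' := by
      rw [eq_sub_iff_add_eq, ← partialSum_add, sub_add_cancel]
    rw [this, map_sub, ← h n, ← h' n, sub_self]
  rw [← sub_eq_zero, ← map_sub]
  refine Eq.trans (congrArg _ (funext fun μ => ?_)) h0
  exact (map_sub _ _ _).symm

/-- Morphisms out of the constant sheaf into derived complete sheaves extend to the completion. -/
theorem exists_extend_lambdaHat (F : EtModW.ModP Λ X)
    (hF : ProEtDC.IsDCSheaf Λ (Ideal.span (Set.range a)) F) (ψ : cM X (ModuleCat.of Λ Λ) ⟶ F) :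
    ∃ Φ : ProEtDC.lambdaHat Λ X (Ideal.span (Set.range a)) ⟶ F,
      ∀ (V : X.ProEt), IsAffine V.left → ProEtS.IsWC V →
        ∀ (s : (cM X (ModuleCat.of Λ Λ)).obj.obj (op V))
          (x : (ProEtDC.lambdaHat Λ X (Ideal.span (Set.range a))).obj.obj (op V)),
          (∀ n, ((projHat (Ideal.span (Set.range a)) X n).hom.app (op V)).hom x =
            ((proj (Ideal.span (Set.range a)) X n).hom.app (op V)).hom s) →
          (Φ.hom.app (op V)).hom x = (ψ.hom.app (op V)).hom s := by
  rw [isDCSheaf_iff] at hF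
  set I := Ideal.span (Set.range a)
  have hdc : ∀ V : X.ProEt, IsAffine V.left → ProEtS.IsWC V → ∀ i, DC (a i) (F.obj.obj (op V)) :=
    fun V hA hW i => hF (a i) (Ideal.subset_span ⟨i, rfl⟩) V hA hW
  choose y hy using fun (V : X.ProEt) (hA : IsAffine V.left) (hW : ProEtS.IsWC V) =>
    exists_isRep (V := V) a hW
  let φ : ∀ V : X.ProEt, IsAffine V.left → ProEtS.IsWC V →
      ((ProEtDC.lambdaHat Λ X I).obj.obj (op V) →ₗ[Λ] F.obj.obj (op V)) := fun V hA hW =>
    { toFun := fun x => seriesSum a (hdc V hA hW) fun μ => (ψ.hom.app (op V)).hom (y V hA hW x μ)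
      map_add' := fun x x' => by
        rw [← map_add]
        refine (seriesSum_eq_of_isRep a F ψ hW (hdc V hA hW) (hy V hA hW (x + x'))
          (y' := y V hA hW x + y V hA hW x') fun n => ?_).trans
          (congrArg _ (funext fun μ => map_add _ _ _))
        rw [map_add, partialSum_add, map_add, hy V hA hW x n, hy V hA hW x' n]
      map_smul' := fun c x => by
        rw [RingHom.id_apply, ← map_smul]
        refine (seriesSum_eq_of_isRep a F ψ hW (hdc V hA hW) (hy V hA hW (c • x))
          (y' := c • y V hA hW x) fun n => ?_).trans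
          (congrArg _ (funext fun μ => map_smul _ _ _))
        rw [map_smul, partialSum_smul, map_smul, hy V hA hW x n] }
  obtain ⟨Φ, hΦ⟩ := exists_hom_of_WC (ProEtDC.lambdaHat Λ X I).obj F φ
    fun V V' hA hW hA' hW' g x => by
      refine ((seriesSum_map (F.obj.map g.op).hom a (hdc V hA hW) (hdc V' hA' hW') _).symm.trans ?_).trans
        (seriesSum_eq_of_isRep a F ψ hW' (hdc V' hA' hW')
          (y := fun μ => ((cM X (ModuleCat.of Λ Λ)).obj.map g.op).hom (y V hA hW x μ))
          (fun n => ?_) (hy V' hA' hW' (((ProEtDC.lambdaHat Λ X I).obj.map g.op).hom x)))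
      · exact congrArg _ (funext fun μ => (NatTrans.naturality_apply ψ.hom g.op _).symm)
      · rw [← partialSum_map]
        refine (NatTrans.naturality_apply (projHat I X n).hom g.op x).trans ?_
        refine Eq.trans ?_ (NatTrans.naturality_apply (proj I X n).hom g.op _).symm
        exact congrArg _ (hy V hA hW x n)
  refine ⟨⟨Φ⟩, fun V hA hW s x hx => (hΦ V hA hW x).trans ?_⟩
  refine (seriesSum_eq_of_isRep a F ψ hW (hdc V hA hW) (hy V hA hW x)
    (y' := fun μ => if μ = 0 then s else 0) fun n => ?_).trans ?_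
  · rw [hx n]
    rcases n with - | n
    · exact ((proj_eq_zero_iff I hW 0 s).2 (by rw [pow_zero, Ideal.one_eq_top, Submodule.top_smul]; trivial)).trans
        ((proj_eq_zero_iff I hW 0 _).2 (by rw [pow_zero, Ideal.one_eq_top, Submodule.top_smul]; trivial)).symm
    · refine congrArg _ ?_
      rw [partialSum, Finset.sum_eq_single 0 (fun b _ hb => by rw [homSum_single, if_neg hb])
        (fun h => absurd (Finset.mem_range.2 (Nat.succ_pos n)) h), homSum_single, if_pos rfl]
  · refine Eq.trans (congrArg _ (funext fun μ => ?_)) (seriesSum_single a (hdc V hA hW) _)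
    beta_reduce
    split_ifs <;> simp

end Gens

end Groth.EtaleDeep.DC
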