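import Groth.Agent.EtaleDeep.DC.ConstWC
import Groth.Agent.EtaleDeep.LocConstP.LBij
import Groth.Agent.EtaleDeep.Eps.Derived
import Mathlib.RingTheory.Finiteness.Cardinality
import Mathlib.Algebra.Module.FinitePresentation

/-!
# Locally constant sheaves of finite type on a weakly contractible affine are generated by finitely
many global sections
-/

set_option autoImplicit false
set_option backward.isDefEq.respectTransparency.types false
set_option linter.style.haveILetI false

universe u

open CategoryTheory CategoryTheory.Limits AlgebraicGeometry Opposite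

namespace Groth.EtaleDeep.DC

open LocConstP

variable {Λ : Type (u + 1)} [CommRing Λ] {X : Scheme.{u}}

/-- The members on which a section is a combination of the given global sections. -/
def spanSieve (K : EtModW.ModP Λ X) {t : ℕ} (f : Fin t → K.obj.obj (op (ProEtS.topP X))) {T : X.ProEt}
    (σ : K.obj.obj (op T)) : Sieve T where
  arrows Z h := (K.obj.map h.op).hom σ ∈
    Submodule.span Λ (Set.range fun i => (K.obj.map ((Eps.isTerminalTopP X).from Z).op).hom (f i))
  downward_closed := by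
    intro Z Z' h hh g
    rw [← map_map]
    refine Submodule.span_le.2 ?_ (Submodule.apply_mem_span_image_of_mem_span (K.obj.map g.op).hom hh)
    rintro _ ⟨_, ⟨i, rfl⟩, rfl⟩
    refine Submodule.subset_span ⟨i, ?_⟩
    rw [map_map, (Eps.isTerminalTopP X).hom_ext (g ≫ (Eps.isTerminalTopP X).from Z)
      ((Eps.isTerminalTopP X).from Z')]

theorem exists_global_gens (hT : IsAffine (ProEtS.topP X).left) (hW : ProEtS.IsWC (ProEtS.topP X))
    (K : EtModW.ModP Λ X) (hK : EtModW.IsFPLocConstP Λ K) :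
    ∃ (t : ℕ) (f : Fin t → K.obj.obj (op (ProEtS.topP X))),
      ∀ (T : X.ProEt) (σ : K.obj.obj (op T)), spanSieve K f σ ∈ Scheme.ProEt.topology X T := by
  classical
  obtain ⟨ι, U, hU, hM⟩ := hK
  obtain ⟨n, O, -, hdisj, hcov, hmem⟩ := hasClopenRefinements hW _ hU
  have hfac : ∀ k, ∃ i, Nonempty (Scheme.ProEt.mk ((O k).ι ≫ (ProEtS.topP X).hom) ⟶ U i) := fun k => by
    obtain ⟨Z, c, -, ⟨i⟩, -⟩ := hmem k
    exact ⟨i, ⟨c⟩⟩
  choose i hg using hfac
  choose M _ _ hfp e using hM
  choose s hs using fun k =>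
    exists_lBij_of_overIso.{u, u + 1, u + 1} (F := K) (U := U (i k)) (M := M (i k)) (e (i k)).some
  have hfin : ∀ k, Module.Finite Λ (M (i k)) := fun k =>
    have := hfp (i k)
    inferInstance
  choose m p hp using fun k => @Module.Finite.exists_fin' Λ (M (i k)) _ _ _ (hfin k)
  let s' := fun k => (K.obj.map (hg k).some.op).hom.comp (s k)
  have hs' : ∀ k, LBij K (Scheme.ProEt.mk ((O k).ι ≫ (ProEtS.topP X).hom)) (s' k) := fun k =>
    (hs k).res (hg k).some
  let e' := LinearEquiv.ofBijective _ (res_bijective K O hdisj hcov)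
  let Idx := Σ k, Fin (m k)
  let f : Idx → K.obj.obj (op (ProEtS.topP X)) := fun x =>
    e'.symm (Pi.single x.1 (s' x.1 (p x.1 (Pi.single x.2 1))))
  let q := Fintype.equivFin Idx
  refine ⟨Fintype.card Idx, fun j => f (q.symm j), fun T σ => ?_⟩
  let g := (Eps.isTerminalTopP X).from T
  have hO : Sieve.generate (Presieve.ofArrows _ fun k => ProEt.openHom (O k)) ∈
      Scheme.ProEt.topology X (ProEtS.topP X) := by
    have hoi : ∀ k, IsOpenImmersion (ProEt.openHom (O k)).left := fun k =>
      inferInstanceAs (IsOpenImmersion (O k).ι)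
    refine ProEt.openImmersions_mem_topology _ _ fun x => ?_
    have hx : x ∈ ⋃ k, (O k : Set ↥(ProEtS.topP X).left) := by rw [hcov]; exact Set.mem_univ x
    obtain ⟨k, hk⟩ := Set.mem_iUnion.1 hx
    exact ⟨k, (O k).range_ι.symm ▸ hk⟩
  refine (Scheme.ProEt.topology X).transitive ((Scheme.ProEt.topology X).pullback_stable g hO) _ ?_
  rintro Z h ⟨_, c, _, ⟨k⟩, hc⟩
  refine (Scheme.ProEt.topology X).superset_covering ?_ ((hs' k).surj c ((K.obj.map h.op).hom σ))
  rintro Z' b ⟨x, hx⟩
  change (K.obj.map (b ≫ h).op).hom σ ∈ Submodule.span Λ _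
  rw [← map_map, ← hx, map_map]
  obtain ⟨v, rfl⟩ := hp k x
  rw [show v = ∑ j, v j • Pi.single j (1 : Λ) from pi_eq_sum_univ' v, map_sum, map_sum, map_sum]
  refine Submodule.sum_mem _ fun j _ => ?_
  rw [map_smul, map_smul, map_smul]
  refine Submodule.smul_mem _ _ (Submodule.subset_span ⟨q ⟨k, j⟩, ?_⟩)
  simp only [Equiv.symm_apply_apply]
  have hk : (K.obj.map (ProEt.openHom (O k)).op).hom (f ⟨k, j⟩) = s' k (p k (Pi.single j 1)) := by
    change e' (f ⟨k, j⟩) k = _
    simp only [f, LinearEquiv.apply_symm_apply, Pi.single_eq_same]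
  rw [← hk, map_map]
  exact congrArg (fun w => (K.obj.map w.op).hom (f ⟨k, j⟩)) ((Eps.isTerminalTopP X).hom_ext _ _)

/-- A morphism whose image contains generating global sections is an epimorphism. -/
theorem epi_of_global_gens {G K : EtModW.ModP Λ X} (φ : G ⟶ K) {t : ℕ}
    (f : Fin t → K.obj.obj (op (ProEtS.topP X)))
    (hf : ∀ (T : X.ProEt) (σ : K.obj.obj (op T)), spanSieve K f σ ∈ Scheme.ProEt.topology X T)
    (hφ : ∀ i, f i ∈ LinearMap.range (φ.hom.app (op (ProEtS.topP X))).hom) : Epi φ := by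
  have : Sheaf.IsLocallySurjective φ := ⟨fun {T} σ => by
    refine (Scheme.ProEt.topology X).superset_covering ?_ (hf T σ)
    intro Z h hh
    have hsub : (K.obj.map h.op).hom σ ∈ LinearMap.range (φ.hom.app (op Z)).hom := by
      refine Submodule.span_le.2 ?_ hh
      rintro _ ⟨i, rfl⟩
      obtain ⟨w, hw⟩ := hφ i
      exact ⟨(G.obj.map ((Eps.isTerminalTopP X).from Z).op).hom w,
        (NatTrans.naturality_apply φ.hom _ w).trans (congrArg _ hw)⟩
    obtain ⟨w, hw⟩ := hsub
    exact ⟨w, hw⟩⟩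
  exact (Sheaf.isLocallySurjective_iff_epi' (ModuleCat.{u + 1} Λ) φ).1 this

end Groth.EtaleDeep.DC
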